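import Groth.Agent.Pi1.K260.D1Plan
import Groth.Agent.Pi1.K868.BcPBC
import Groth.Agent.Pi1A.ProperClopen

/-!
# Extension of locally constant functions from closed subsets, for integral morphisms

`ext : K260.D1.Ext`: for `t : T ⟶ B` integral, `F ⊆ B` closed, a locally constant function on `t ⁻¹ F` with finite
target extends, étale locally on `B` around the points of `F`.
-/

set_option autoImplicit false
universe u

open CategoryTheory CategoryTheory.Limits AlgebraicGeometry Opposite IsLocalRing

namespace K826.D1Ext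

open EtDesc Groth.Agent.Sga4A.EtStalk Groth.Agent.Etbc.H230.ConstSets Groth.Agent.Etrest.StrictLoc
  Groth.Agent.EtpbcB.StrictLoc Groth.Agent.EtpbcB Groth.Agent.EtpbcB.OshHens K868.Bc K868.Bc.PBC

/-- Over a henselian local ring, relatively clopen subsets of the closed subsets containing the closed fibre of an
integral morphism are traces of clopen subsets. -/
theorem clSurj_of_integral {R : Type u} [CommRing R] [HenselianLocalRing R] {X : Scheme.{u}}
    (q : X ⟶ Spec (CommRingCat.of R)) [IsIntegralHom q] (W : Set X) (hW : IsClosed W)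
    (hcf : q ⁻¹' {closedPoint R} ⊆ W) : ClSurj W := by
  intro D hD hrel
  have hD1 : IsClosed D := by
    have h1 := hW.isClosedEmbedding_subtypeVal.isClosedMap _ hrel.isClosed
    rwa [Subtype.image_preimage_val, Set.inter_eq_right.2 hD] at h1
  have hD2 : IsClosed (W \ D) := by
    have h1 := hW.isClosedEmbedding_subtypeVal.isClosedMap _ hrel.compl.isClosed
    rwa [← Set.preimage_compl, Subtype.image_preimage_val, ← Set.sdiff_eq] at h1
  have hz : (PrimeSpectrum.zeroLocus (maximalIdeal R : Set R) : Set (Spec (CommRingCat.of R))) =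
      {closedPoint R} := by
    have h1 := PrimeSpectrum.closure_singleton (closedPoint R)
    rw [(isClosed_singleton_closedPoint R).closure_eq] at h1
    exact h1.symm
  have hcl : IsClosed (q ⁻¹' {closedPoint R}) :=
    (isClosed_singleton_closedPoint R).preimage q.continuous
  -- a nonempty closed subset meets the closed fibre
  have hne : ∀ K : Set X, IsClosed K → Disjoint K (q ⁻¹' {closedPoint R}) → K = ∅ := by
    intro K hK hd
    by_contra h
    obtain ⟨z, hz⟩ : K.Nonempty := Set.nonempty_iff_ne_empty.2 h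
    have h1 : IsClosed (q '' K) := (Scheme.Hom.isClosedMap q) _ hK
    have h2 : closedPoint R ∈ q '' K := by
      have h3 : q z ⤳ closedPoint R := IsLocalRing.specializes_closedPoint _
      exact h3.mem_closed h1 ⟨z, hz, rfl⟩
    obtain ⟨z', hz', e⟩ := h2
    exact Set.disjoint_left.1 hd hz' e
  have hl := Groth.Agent.Pi1A.ProperClopen.liftsClopen_of_isIntegralHom R (maximalIdeal R) q
  rw [hz] at hl
  obtain ⟨C, hC, hCD⟩ := hl (D ∩ q ⁻¹' {closedPoint R}) ((W \ D) ∩ q ⁻¹' {closedPoint R})
    (hD1.inter hcl) (hD2.inter hcl) (by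
      rw [Set.disjoint_left]
      rintro x ⟨h1, -⟩ ⟨h2, -⟩
      exact h2.2 h1) (by
      ext x
      simp only [Set.mem_union, Set.mem_inter_iff, Set.mem_sdiff]
      constructor
      · rintro (h | h)
        · exact h.2
        · exact h.2
      · intro h
        by_cases hx : x ∈ D
        · exact Or.inl ⟨hx, h⟩
        · exact Or.inr ⟨⟨hcf h, hx⟩, h⟩)
  refine ⟨C, hC, ?_⟩
  have h1 : D \ C = ∅ := by
    apply hne _ (hD1.sdiff hC.isOpen)
    rw [Set.disjoint_left]
    rintro x ⟨h1, h2⟩ h3
    have : x ∈ D ∩ q ⁻¹' {closedPoint R} := ⟨h1, h3⟩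
    rw [← hCD] at this
    exact h2 this.1
  have h2 : C ∩ (W \ D) = ∅ := by
    apply hne _ (hC.isClosed.inter hD2)
    rw [Set.disjoint_left]
    rintro x ⟨h1, h2⟩ h3
    have h4 : x ∈ D ∩ q ⁻¹' {closedPoint R} := (Set.ext_iff.1 hCD x).1 ⟨h1, h3⟩
    exact h2.2 h4.1
  ext x
  constructor
  · rintro ⟨h3, h4⟩
    by_contra h5
    have : x ∈ C ∩ (W \ D) := ⟨h3, h4, h5⟩
    rw [h2] at this
    exact this
  · intro h3
    refine ⟨?_, hD h3⟩
    by_contra h5
    have : x ∈ D \ C := ⟨h3, h5⟩
    rw [h1] at this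
    exact this

/-- The version for clopen subsets. -/
theorem ext_clopen {T B : Scheme.{u}} (t : T ⟶ B) [IsIntegralHom t] (F : Set B) (hF : IsClosed F)
    (K : Set T) (hD : K ⊆ t ⁻¹' F) (hrel : IsClopen ((Subtype.val : t ⁻¹' F → T) ⁻¹' K)) (y : B) (hy : y ∈ F) :
    ∃ (M : Scheme.{u}) (m : M ⟶ B) (_ : Etale m) (y' : M) (_ : m y' = y) (C : Set ↥(pullback t m)),
      IsClopen C ∧ C ∩ (pullback.fst t m) ⁻¹' (t ⁻¹' F) = (pullback.fst t m) ⁻¹' K := by
  obtain ⟨Ω, _, _, ρ, rfl⟩ := exists_geomPoint _ y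
  have hW : IsClosed (t ⁻¹' F) := hF.preimage t.continuous
  have hD1 : IsClosed K := by
    have h1 := hW.isClosedEmbedding_subtypeVal.isClosedMap _ hrel.isClosed
    rwa [Subtype.image_preimage_val, Set.inter_eq_right.2 hD] at h1
  have hD2 : IsClosed (t ⁻¹' F \ K) := by
    have h1 := hW.isClosedEmbedding_subtypeVal.isClosedMap _ hrel.compl.isClosed
    rwa [← Set.preimage_compl, Subtype.image_preimage_val, ← Set.sdiff_eq] at h1
  have hsurj : ClSurj ((pullback.fst t (toBase ρ)) ⁻¹' (t ⁻¹' F)) := by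
    refine @clSurj_of_integral (Osh ρ) _ (Groth.Agent.EtpbcB.StrictLoc.henselianLocalRing ρ) _
      (pullback.snd t (toBase ρ)) inferInstance _
      (hW.preimage (pullback.fst t (toBase ρ)).continuous) ?_
    intro x hx
    have h1 : t (pullback.fst t (toBase ρ) x) = toBase ρ (pullback.snd t (toBase ρ) x) := by
      rw [← Scheme.Hom.comp_apply, pullback.condition, Scheme.Hom.comp_apply]
    have h2 : pullback.snd t (toBase ρ) x = closedPoint (Osh ρ) := hx
    show t (pullback.fst t (toBase ρ) x) ∈ F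
    rw [h1, h2, ← pt_default ρ, ← Scheme.Hom.comp_apply, pt_toBase]
    exact hy
  obtain ⟨i, s, hs⟩ := exists_ind ρ (IsPullback.of_hasPullback t (toBase ρ)) hD hD1 hD2 hsurj
  let V := (D ρ).obj i
  have hV : Etale V.hom := inferInstance
  let e : pullback t V.hom ≅ pullback V.hom t := pullbackSymmetry _ _
  refine ⟨V.left, V.hom, inferInstance, lft ρ i default, ?_, e.hom ⁻¹' (clop s : Set ↥(pullback V.hom t)), ?_, ?_⟩
  · rw [← Scheme.Hom.comp_apply, lft_hom]
  · exact (isClopen_clop s).preimage e.hom.continuous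
  · have h1 : ∀ x, pullback.fst t V.hom x = pullback.snd V.hom t (e.hom x) := by
      intro x
      rw [← Scheme.Hom.comp_apply, pullbackSymmetry_hom_comp_snd]
    ext x
    have h2 := Set.ext_iff.1 hs (e.hom x)
    simp only [Set.mem_inter_iff, Set.mem_preimage] at h2 ⊢
    rw [h1]
    exact h2

/-- Finite families. -/
theorem ext_finset {T B : Scheme.{u}} (t : T ⟶ B) [IsIntegralHom t] (F : Set B) (hF : IsClosed F)
    (E : Type) (k : ↥(t ⁻¹' F) → E) (hk : IsLocallyConstant k) (y : B) (hy : y ∈ F) (S : Finset E) :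
    ∃ (M : Scheme.{u}) (m : M ⟶ B) (_ : Etale m) (y' : M) (_ : m y' = y) (C : E → Set ↥(pullback t m)),
      ∀ e ∈ S, IsClopen (C e) ∧
        C e ∩ (pullback.fst t m) ⁻¹' (t ⁻¹' F) = (pullback.fst t m) ⁻¹' (Subtype.val '' (k ⁻¹' {e})) := by
  classical
  induction S using Finset.induction_on with
  | empty => exact ⟨B, 𝟙 B, inferInstance, y, rfl, fun _ => ∅, fun e he => absurd he (Finset.notMem_empty e)⟩
  | insert e S he ih =>
    obtain ⟨M₁, m₁, hm₁, y₁, hy₁, C₁, hC₁⟩ := ih
    obtain ⟨M₂, m₂, hm₂, y₂, hy₂, C₂, hC₂, hC₂'⟩ := ext_clopen t F hF (Subtype.val '' (k ⁻¹' {e}))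
      (by rintro _ ⟨x, -, rfl⟩; exact x.2)
      (by
        rw [Set.preimage_image_eq _ Subtype.val_injective]
        exact hk.isClopen_fiber e) y hy
    obtain ⟨y', hy'₁, hy'₂⟩ := Scheme.Pullback.exists_preimage_pullback y₁ y₂ (hy₁.trans hy₂.symm)
    let m : pullback m₁ m₂ ⟶ B := pullback.fst m₁ m₂ ≫ m₁
    have hm : m = pullback.snd m₁ m₂ ≫ m₂ := pullback.condition
    let a : pullback t m ⟶ pullback t m₁ := pullback.lift (pullback.fst t m)
      (pullback.snd t m ≫ pullback.fst m₁ m₂) (by rw [pullback.condition, Category.assoc])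
    let b : pullback t m ⟶ pullback t m₂ := pullback.lift (pullback.fst t m)
      (pullback.snd t m ≫ pullback.snd m₁ m₂) (by rw [pullback.condition, Category.assoc, ← hm])
    have ha : ∀ x, pullback.fst t m₁ (a x) = pullback.fst t m x := by
      intro x
      rw [← Scheme.Hom.comp_apply, pullback.lift_fst]
    have hb : ∀ x, pullback.fst t m₂ (b x) = pullback.fst t m x := by
      intro x
      rw [← Scheme.Hom.comp_apply, pullback.lift_fst]
    refine ⟨pullback m₁ m₂, m, inferInstance, y', ?_, fun e' => if e' = e then b ⁻¹' C₂ else a ⁻¹' C₁ e', ?_⟩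
    · rw [Scheme.Hom.comp_apply, hy'₁, hy₁]
    · intro e' he'
      by_cases h : e' = e
      · subst h
        simp only [if_true]
        refine ⟨hC₂.preimage b.continuous, ?_⟩
        ext x
        have h2 := Set.ext_iff.1 hC₂' (b x)
        simp only [Set.mem_inter_iff, Set.mem_preimage, hb] at h2 ⊢
        exact h2
      · have he'' : e' ∈ S := (Finset.mem_insert.1 he').resolve_left h
        simp only [if_neg h]
        refine ⟨(hC₁ e' he'').1.preimage a.continuous, ?_⟩
        ext x
        have h2 := Set.ext_iff.1 (hC₁ e' he'').2 (a x)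
        simp only [Set.mem_inter_iff, Set.mem_preimage, ha] at h2 ⊢
        exact h2

/-- The pattern of finitely many clopen subsets is locally constant. -/
theorem isLocallyConstant_pattern {X : Type*} [TopologicalSpace X] {E : Type*} [Finite E] (C : E → Set X)
    (hC : ∀ e, IsClopen (C e)) : IsLocallyConstant (fun x => {e | x ∈ C e}) := by
  rw [IsLocallyConstant.iff_eventually_eq]
  intro x
  have h1 : ∀ e, ∀ᶠ z in nhds x, (z ∈ C e ↔ x ∈ C e) := by
    intro e
    by_cases hx : x ∈ C e
    · filter_upwards [(hC e).isOpen.mem_nhds hx] with z hz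
      exact ⟨fun _ => hx, fun _ => hz⟩
    · filter_upwards [(hC e).compl.isOpen.mem_nhds hx] with z hz
      exact ⟨fun h => absurd h hz, fun h => absurd h hx⟩
  filter_upwards [Filter.eventually_all.2 h1] with z hz
  ext e
  exact hz e

/-- **Node EXT**. -/
theorem ext : K260.D1.Ext.{u} := by
  classical
  intro T B t ht F hF E hE k hk y hy
  rcases isEmpty_or_nonempty E with hem | ⟨⟨e₀⟩⟩
  · -- the fibre over `y` is empty
    have hr : IsClosed (Set.range t) := (Scheme.Hom.isClosedMap t).isClosed_range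
    have hyr : y ∉ Set.range t := by
      rintro ⟨x, rfl⟩
      exact hem.elim (k ⟨x, hy⟩)
    let U : B.Opens := ⟨(Set.range t)ᶜ, hr.isOpen_compl⟩
    have hU : ∀ z : ↥(pullback t U.ι), False := by
      intro z
      have h1 : U.ι (pullback.snd t U.ι z) ∈ U := (pullback.snd t U.ι z).2
      rw [← Scheme.Hom.comp_apply, ← pullback.condition, Scheme.Hom.comp_apply] at h1
      exact h1 ⟨_, rfl⟩
    exact ⟨(U : Scheme.{u}), U.ι, inferInstance, ⟨y, hyr⟩, rfl, fun z => (hU z).elim,
      (IsLocallyConstant.iff_eventually_eq _).2 fun z => (hU z).elim, fun z => (hU z).elim⟩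
  · have := Fintype.ofFinite E
    obtain ⟨M, m, hm, y', hy', C, hC⟩ := ext_finset t F hF E k hk y hy Finset.univ
    let Φ : Set E → E := fun A => if h : ∃ e, A = {e} then h.choose else e₀
    have hΦ : ∀ e, Φ {e} = e := by
      intro e
      have h : ∃ e', ({e} : Set E) = {e'} := ⟨e, rfl⟩
      show (if h : ∃ e', ({e} : Set E) = {e'} then h.choose else e₀) = e
      rw [dif_pos h]
      exact (Set.singleton_injective h.choose_spec).symm
    refine ⟨M, m, hm, y', hy', fun x => Φ {e | x ∈ C e},
      (isLocallyConstant_pattern C fun e => (hC e (Finset.mem_univ e)).1).comp Φ, ?_⟩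
    intro z hz
    have h1 : {e | z ∈ C e} = {k ⟨_, hz⟩} := by
      ext e
      have h2 := Set.ext_iff.1 (hC e (Finset.mem_univ e)).2 z
      simp only [Set.mem_inter_iff, Set.mem_preimage, Set.mem_image, Set.mem_singleton_iff, Subtype.exists,
        exists_and_right, exists_eq_right] at h2
      simp only [Set.mem_ofPred_eq, Set.mem_singleton_iff]
      constructor
      · intro h3
        obtain ⟨h4, h5⟩ := h2.1 ⟨h3, hz⟩
        exact h5.symm
      · rintro rfl
        exact (h2.2 ⟨hz, rfl⟩).1
    show Φ {e | z ∈ C e} = _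
    rw [h1, hΦ]

end K826.D1Ext
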